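import Cfsg.Agent.H754.NMapFrat

/-!
# Normal maps: extension of the elements of `A P` (helper754)
-/

set_option autoImplicit false

namespace Cfsg.Agent.H754

open Cfsg Cfsg.FusionSystem Cfsg.Agent.H752

variable {Ω : Type*} [Group Ω] {S T : Subgroup Ω}
variable {F : FusionSystem S} {p : ℕ} {PP : Set (Subgroup Ω)}
  {A : ∀ P : Subgroup Ω, Subgroup (MulAut P)}

theorem autInducedBy_mono {K L P : Subgroup Ω} (h : K ≤ L) :
    autInducedBy K P ≤ autInducedBy L P := by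
  intro α hα
  obtain ⟨g, hg, h1⟩ := (H802.mem_autInducedBy_iff _ _ _).1 hα
  exact (H802.mem_autInducedBy_iff _ _ _).2 ⟨g, h hg, h1⟩

theorem le_kNorm {P : Subgroup Ω} (hPT : P ≤ T) {V : Subgroup (MulAut P)}
    (hV : autInducedBy P P ≤ V) : P ≤ H802.kNorm T P V := by
  intro y hy
  obtain ⟨c, hc⟩ := H802.exists_conjAut (Subgroup.le_normalizer hy : y ∈ Subgroup.normalizer (P : Set Ω))
  exact ⟨hPT hy, c, hV ((H802.mem_autInducedBy_iff _ _ _).2 ⟨y, hy, hc⟩), hc⟩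

/-- The conjugate of the automorphism induced by `t` under the restriction `g` of a map `k`. -/
theorem conj_val {E : FusionSystem T} {X P : Subgroup Ω} {k : Ω → Ω} (hk : Mp E X k) (hPX : P ≤ X)
    {g : MulAut P} (hkg : ∀ (y : Ω) (hy : y ∈ P), k y = (g ⟨y, hy⟩ : P)) {t : Ω} (ht : t ∈ X)
    {α : MulAut P} (hα : ∀ x : P, ((α x : P) : Ω) = t * x * t⁻¹) (x : P) :
    (((g * α * g⁻¹) x : P) : Ω) = k t * x * (k t)⁻¹ := by
  have h1 : (((g * α * g⁻¹) x : P) : Ω) = k ((α (g⁻¹ x) : P) : Ω) := by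
    rw [hkg _ (α (g⁻¹ x)).2]
    rfl
  have h2 : k ((g⁻¹ x : P) : Ω) = x := by
    rw [hkg _ (g⁻¹ x).2]
    show ((g (g⁻¹ x) : P) : Ω) = x
    rw [MulAut.apply_inv_self]
  rw [h1, hα, hk.mul (mul_mem ht (hPX (g⁻¹ x).2)) (inv_mem ht), hk.mul ht (hPX (g⁻¹ x).2),
    hk.inv ht, h2]

namespace NMap

variable (h : NMap F T p PP A)

include h

/-- **Extension of the elements of `A P`**, `P` fully normalized. -/
theorem ext_full [Finite S] [Fact p.Prime] (hS : IsPGroup p S) (hF : F.IsSaturated p)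
    {P : Subgroup Ω} (hP : P ∈ PP) (hPn : F.IsFullyNormalized P) {a : MulAut P} (ha : a ∈ A P)
    {X : Subgroup Ω} (hPX : P ≤ X) (hXT : X ≤ T)
    (hX : ∀ x ∈ X, x ∈ Subgroup.normalizer (P : Set Ω) ∧ ∃ t ∈ T, ∀ (y : Ω) (hy : y ∈ P)
      (hxy : x * y * x⁻¹ ∈ P), ((a ⟨x * y * x⁻¹, hxy⟩ : P) : Ω) = t * (a ⟨y, hy⟩ : P) * t⁻¹) :
    ∃ k, Mp h.sys X k ∧ ∀ (y : Ω) (hy : y ∈ P), k y = (a ⟨y, hy⟩ : P) := by
  have hTS := h.TS
  have hPT := h.le P hP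
  have hPS := h.leS hP
  have hfP : Finite P := H802.finite_of_le hPS
  have hfA : Finite (A P) := inferInstance
  have hIU : autInducedBy P P ≤ autInducedBy T P := autInducedBy_mono hPT
  have hI : ∀ k ∈ A P, ∀ i ∈ autInducedBy P P, k * i * k⁻¹ ∈ autInducedBy P P := by
    intro k hk i hi
    obtain ⟨g, hg, h1⟩ := (H802.mem_autInducedBy_iff _ _ _).1 hi
    have hkF := (mp_iff_autGroup hPS k).1 (h.A_le P hP hk)
    refine (H802.mem_autInducedBy_iff _ _ _).2 ⟨ex (fun x => ((k x : P) : Ω)) g, ?_, ?_⟩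
    · rw [ex_apply _ hg]; exact (k _).2
    · exact conj_val hkF le_rfl (fun y hy => ex_apply _ hy) hg h1
  let M : Subgroup (MulAut P) → MulAut P → Prop := fun V g =>
    ∃ k, Mp h.sys (H802.kNorm T P V) k ∧ ∀ (y : Ω) (hy : y ∈ P), k y = (g ⟨y, hy⟩ : P)
  -- values on the normalizer
  have hmap : ∀ (V V' : Subgroup (MulAut P)) (g : MulAut P) (k : Ω → Ω),
      autInducedBy P P ≤ V → Mp F (H802.kNorm T P V) k →
      (∀ (y : Ω) (hy : y ∈ P), k y = (g ⟨y, hy⟩ : P)) → (∀ v ∈ V, g * v * g⁻¹ ∈ V') →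
      ∀ t ∈ H802.kNorm T P V, k t ∈ H802.kNorm T P V' := by
    intro V V' g k hIV hk hkg hV' t ht
    obtain ⟨htT, α, hα, hαt⟩ := ht
    refine ⟨mp_mem_of_stronglyClosed h.hT hk ⟨htT, α, hα, hαt⟩ htT, g * α * g⁻¹, hV' α hα, ?_⟩
    exact conj_val hk (le_kNorm hPT hIV) hkg ⟨htT, α, hα, hαt⟩ hαt
  have key := grp_alp (h.syl P hP hPn) hIU hI M ?_ ?_ ?_ ?_ ?_
  · have hVU : autInducedBy X P ≤ autInducedBy T P := autInducedBy_mono hXT
    obtain ⟨k, hk, hka⟩ := key (autInducedBy X P) (autInducedBy_mono hPX) hVU a ha (by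
      intro v hv
      obtain ⟨x, hx, h1⟩ := (H802.mem_autInducedBy_iff _ _ _).1 hv
      obtain ⟨hxn, t, ht, h2⟩ := hX x hx
      refine (H802.mem_autInducedBy_iff _ _ _).2 ⟨t, ht, fun z => ?_⟩
      have h3 : x * ((a⁻¹ z : P) : Ω) * x⁻¹ ∈ P :=
        (Subgroup.mem_normalizer_iff.1 hxn _).1 (a⁻¹ z).2
      have h4 := h2 _ (a⁻¹ z).2 h3
      have h5 : v (a⁻¹ z) = ⟨x * ((a⁻¹ z : P) : Ω) * x⁻¹, h3⟩ := Subtype.ext (h1 _)
      rw [MulAut.mul_apply, MulAut.mul_apply, h5, h4]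
      have h6 : (⟨((a⁻¹ z : P) : Ω), (a⁻¹ z).2⟩ : P) = a⁻¹ z := rfl
      rw [h6, MulAut.apply_inv_self])
    refine ⟨k, hk.res ?_, hka⟩
    intro x hx
    obtain ⟨c, hc⟩ := H802.exists_conjAut (hX x hx).1
    exact ⟨hXT hx, c, (H802.mem_autInducedBy_iff _ _ _).2 ⟨x, hx, hc⟩, hc⟩
  · -- restriction
    rintro V V' g ⟨k, hk, hkg⟩ - hV
    exact ⟨k, hk.res (H802.kNorm_mono T P hV), hkg⟩
  · -- composition
    rintro V V' g g' hIV hVU hV'U hg hg' ⟨k, hk, hkg⟩ ⟨k', hk', hkg'⟩ hVV'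
    refine ⟨_, hk.comp hk' (hmap V V' g k hIV (mp_mono h.sys_le hk) hkg hVV'), fun y hy => ?_⟩
    show k' (k y) = _
    rw [hkg y hy, hkg' _ (g ⟨y, hy⟩).2]
    rfl
  · -- inverse
    rintro V V' g hIV hVU hV'U hg ⟨k, hk, hkg⟩ hV'
    have hPX := le_kNorm hPT hIV
    obtain ⟨X₁, hX₁, -⟩ := exists_image hk
    obtain ⟨k', hk', hk'i, hk'1, hk'2⟩ := exists_inverse hk hX₁
    refine ⟨k', hk'.res ?_, fun y hy => ?_⟩
    · rintro t' ⟨ht'T, w, hw, hwt'⟩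
      obtain ⟨v, hv, rfl⟩ := (hV' w).1 hw
      obtain ⟨t, ht, htv⟩ := (H802.mem_autInducedBy_iff _ _ _).1 (hVU hv)
      have htX : t ∈ H802.kNorm T P V := ⟨ht, v, hv, htv⟩
      have hc : (k t)⁻¹ * t' ∈ P := by
        refine h.cent P hP _ (mul_mem (inv_mem (hk.mem htX)) ht'T) fun x hx => ?_
        have h1 := conj_val hk hPX hkg htX htv ⟨x, hx⟩
        have h2 := hwt' ⟨x, hx⟩
        have h3 : k t * x * (k t)⁻¹ = t' * x * t'⁻¹ := h1.symm.trans h2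
        calc x * ((k t)⁻¹ * t') = (k t)⁻¹ * (k t * x * (k t)⁻¹) * t' := by group
          _ = (k t)⁻¹ * (t' * x * t'⁻¹) * t' := by rw [h3]
          _ = (k t)⁻¹ * t' * x := by group
      refine (hX₁ t').2 ⟨t * ((g⁻¹ ⟨_, hc⟩ : P) : Ω), mul_mem htX (hPX (g⁻¹ _).2), ?_⟩
      rw [hk.mul htX (hPX (g⁻¹ _).2), hkg _ (g⁻¹ _).2]
      have h6 : (⟨((g⁻¹ ⟨(k t)⁻¹ * t', hc⟩ : P) : Ω), (g⁻¹ ⟨(k t)⁻¹ * t', hc⟩).2⟩ : P) =
        g⁻¹ ⟨(k t)⁻¹ * t', hc⟩ := rfl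
      rw [h6, MulAut.apply_inv_self]
      show k t * ((k t)⁻¹ * t') = t'
      group
    · have h1 := hk'1 _ (hPX (g⁻¹ ⟨y, hy⟩).2)
      rw [hkg _ (g⁻¹ ⟨y, hy⟩).2] at h1
      have h6 : (⟨((g⁻¹ ⟨y, hy⟩ : P) : Ω), (g⁻¹ ⟨y, hy⟩).2⟩ : P) = g⁻¹ ⟨y, hy⟩ := rfl
      rw [h6, MulAut.apply_inv_self] at h1
      exact h1
  · -- elements of `U`
    rintro V hIV hVU u hu
    obtain ⟨t, ht, htu⟩ := (H802.mem_autInducedBy_iff _ _ _).1 hu
    exact ⟨_, mp_conj h.sys (H802.kNorm_le T P V) ht, fun y hy => (htu ⟨y, hy⟩).symm⟩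
  · -- `p'`-elements normalizing `V`
    rintro V hIV hVU g hg hgV hcop
    have hPX := le_kNorm hPT hIV
    have hgF := (mp_iff_autGroup hPS g).1 (h.A_le P hP hg)
    have hgv : ∀ (x : Ω) (hx : x ∈ P), ex (fun x => ((g x : P) : Ω)) x = (g ⟨x, hx⟩ : P) :=
      fun x hx => ex_apply _ hx
    have hrec := H802.isReceptive_of_isFullyNormalized hS hF hPn
    obtain ⟨k, hk, hke⟩ := mp_extend hrec hgF (fun y => by
        constructor
        · intro hy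
          refine ⟨((g⁻¹ ⟨y, hy⟩ : P) : Ω), (g⁻¹ _).2, ?_⟩
          rw [hgv _ (g⁻¹ ⟨y, hy⟩).2]
          have h6 : (⟨((g⁻¹ ⟨y, hy⟩ : P) : Ω), (g⁻¹ ⟨y, hy⟩).2⟩ : P) = g⁻¹ ⟨y, hy⟩ := rfl
          rw [h6, MulAut.apply_inv_self]
        · rintro ⟨x, hx, rfl⟩
          rw [hgv x hx]
          exact (g _).2) (N := H802.kNorm T P V) hPX (by
        intro t ht
        have htN := H802.kNorm_le_normalizerIn T P V ht
        obtain ⟨htT, v, hv, hvt⟩ := ht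
        refine ⟨hTS htT, htN.2, ?_⟩
        obtain ⟨s, hs, hse⟩ := (H802.mem_autInducedBy_iff _ _ _).1 (hVU (hgV v hv))
        refine ⟨s, hTS hs, fun x hx => ?_⟩
        have htx : t * x * t⁻¹ ∈ P := (Subgroup.mem_normalizer_iff.1 htN.2 x).1 hx
        rw [hgv _ htx, hgv x hx, ← hse]
        have h7 : (⟨t * x * t⁻¹, htx⟩ : P) = v ⟨x, hx⟩ := Subtype.ext (hvt ⟨x, hx⟩).symm
        rw [h7, MulAut.mul_apply, MulAut.mul_apply, MulAut.inv_apply_self])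
    have hkg : ∀ (y : Ω) (hy : y ∈ P), k y = (g ⟨y, hy⟩ : P) := fun y hy => by
      rw [hke y hy, hgv y hy]
    have hXS : H802.kNorm T P V ≤ S := (H802.kNorm_le T P V).trans hTS
    have hfX : Finite (H802.kNorm T P V) := H802.finite_of_le hXS
    obtain ⟨κ, hκ, hκe⟩ := hk.exists_aut (hmap V V g k hIV hk hkg hgV)
    have hr : Restr hPX g κ := fun x hx => by rw [← hκe x (hPX hx), hkg x hx]
    obtain ⟨j, hj, hjc⟩ := hr.exists_coprime hcop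
    have hXP : H802.kNorm T P V ∈ PP := h.mono P hP _ hPX (H802.kNorm_le T P V)
    have hA := h.ext P hP hPn _ hPX (H802.kNorm_le_normalizerIn T P V) (κ ^ j)
      (Subgroup.zpow_mem _ hκ j) hjc g hg hj
    refine ⟨_, h.mp_of_A hXP hA fun x hx => ex_apply (fun x => (((κ ^ j) x :
      H802.kNorm T P V) : Ω)) hx, fun y hy => ?_⟩
    rw [ex_apply _ (hPX hy)]
    exact hj y hy

/-- **Extension of the elements of `A P`**, `P` good. -/
theorem ext_good [Finite S] [Fact p.Prime] (hS : IsPGroup p S) (hF : F.IsSaturated p)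
    {P : Subgroup Ω} (hP : Good F T PP P) {a : MulAut P} (ha : a ∈ A P)
    {X : Subgroup Ω} (hPX : P ≤ X) (hXT : X ≤ T)
    (hX : ∀ x ∈ X, x ∈ Subgroup.normalizer (P : Set Ω) ∧ ∃ t ∈ T, ∀ (y : Ω) (hy : y ∈ P)
      (hxy : x * y * x⁻¹ ∈ P), ((a ⟨x * y * x⁻¹, hxy⟩ : P) : Ω) = t * (a ⟨y, hy⟩ : P) * t⁻¹) :
    ∃ k, Mp h.sys X k ∧ ∀ (y : Ω) (hy : y ∈ P), k y = (a ⟨y, hy⟩ : P) := by
  obtain ⟨hPP, a₀, P', ha₀, hP', hP'n⟩ := hP
  have hTS := h.TS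
  have hfT : Finite T := H802.finite_of_le hTS
  have hPT := h.le P hPP
  have hP'P : P' ∈ PP := h.image P hPP a₀ P' (ha₀.res hPT) hP'
  obtain ⟨b₀, hb₀, hb1, hb2⟩ := exists_aut_inv h.hT ha₀
  have ha₀T : ∀ x ∈ T, a₀ x ∈ T := fun x hx => mp_mem_of_stronglyClosed h.hT ha₀ hx hx
  obtain ⟨α', hα'⟩ := exists_tr (ha₀.res hPT) hP' a
  have hα'A : α' ∈ A P' := h.A_tr P hPP a₀ P' (ha₀.res hPT) hP' a ha α' hα'
  obtain ⟨X', hX', -⟩ := exists_image (ha₀.res hXT)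
  have hPX' : P' ≤ X' := by
    intro y hy
    obtain ⟨x, hx, rfl⟩ := (hP' y).1 hy
    exact hX'.mem (hPX hx)
  have hX'T : X' ≤ T := by
    intro y hy
    obtain ⟨x, hx, rfl⟩ := (hX' y).1 hy
    exact ha₀T x (hXT hx)
  have hc : ∀ x ∈ T, ∀ y ∈ T, a₀ x * a₀ y * (a₀ x)⁻¹ = a₀ (x * y * x⁻¹) := by
    intro x hx y hy
    rw [ha₀.mul (mul_mem hx hy) (inv_mem hx), ha₀.mul hx hy, ha₀.inv hx]
  obtain ⟨k', hk', hk'e⟩ := h.ext_full hS hF hP'P hP'n hα'A hPX' hX'T (by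
    intro x' hx'
    obtain ⟨x, hx, rfl⟩ := (hX' x').1 hx'
    obtain ⟨hxn, t, ht, hte⟩ := hX x hx
    have hcP : ∀ y ∈ P, x * y * x⁻¹ ∈ P := fun y hy => (Subgroup.mem_normalizer_iff.1 hxn y).1 hy
    refine ⟨H802.mem_normalizer_of_conj_mem (h.leS hP'P) ?_, a₀ t, ha₀T t ht, ?_⟩
    · intro y' hy'
      obtain ⟨y, hy, rfl⟩ := (hP' y').1 hy'
      rw [hc x (hXT hx) y (hPT hy)]
      exact hP'.mem (hcP y hy)
    · intro y' hy' hxy'
      obtain ⟨y, hy, rfl⟩ := (hP' y').1 hy'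
      obtain ⟨h1, h2⟩ := hα' y hy
      obtain ⟨h3, h4⟩ := hα' _ (hcP y hy)
      rw [h2, hc t ht _ (hPT (a ⟨y, hy⟩).2), ← hte y hy (hcP y hy), ← h4]
      congr 2
      exact Subtype.ext (hc x (hXT hx) y (hPT hy)))
  refine ⟨fun x => b₀ (k' (a₀ x)), h.invC_sys X' X k' b₀ _ hk' hb₀ fun y hy =>
    ⟨a₀ y, hX'.mem hy, hb1 y (hXT hy), rfl⟩, fun y hy => ?_⟩
  show b₀ (k' (a₀ y)) = _
  obtain ⟨h1, h2⟩ := hα' y hy
  rw [hk'e _ h1, h2, hb1 _ (hPT (a ⟨y, hy⟩).2)]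

/-- `Aut_T(P)` is a Sylow `p`-subgroup of `A P` for the good `P`. -/
theorem syl_good [Finite S] [Fact p.Prime] {P : Subgroup Ω} (hP : Good F T PP P) :
    H802.SylIn p (autInducedBy T P) (A P) := by
  obtain ⟨hPP, a₀, P', ha₀, hP', hP'n⟩ := hP
  have hTS := h.TS
  have hfT : Finite T := H802.finite_of_le hTS
  have hPT := h.le P hPP
  have hP'P : P' ∈ PP := h.image P hPP a₀ P' (ha₀.res hPT) hP'
  obtain ⟨b₀, hb₀, hb1, hb2⟩ := exists_aut_inv h.hT ha₀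
  have ha₀T : ∀ x ∈ T, a₀ x ∈ T := fun x hx => mp_mem_of_stronglyClosed h.hT ha₀ hx hx
  have hP'T := h.le P' hP'P
  have hPi : Im b₀ P' P := by
    intro y
    constructor
    · intro hy
      exact ⟨a₀ y, hP'.mem hy, hb1 y (hPT hy)⟩
    · rintro ⟨z, hz, rfl⟩
      obtain ⟨x, hx, rfl⟩ := (hP' z).1 hz
      rw [hb1 x (hPT hx)]
      exact hx
  obtain ⟨e, he⟩ := exists_equiv (ha₀.res hPT) hP'
  have hA : (A P).map (MulAut.congr e).toMonoidHom = A P' := by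
    ext β
    constructor
    · rintro ⟨α, hα, rfl⟩
      exact h.A_tr P hPP a₀ P' (ha₀.res hPT) hP' α hα _ (trA_congr he α)
    · intro hβ
      refine ⟨(MulAut.congr e).symm β, ?_, (MulAut.congr e).apply_symm_apply β⟩
      have h1 := trA_congr he ((MulAut.congr e).symm β)
      rw [MulEquiv.apply_symm_apply] at h1
      exact h.A_tr P' hP'P b₀ P (hb₀.res hP'T) hPi β hβ _
        (h1.symm hP' fun x hx => hb1 x (hPT hx))
  have hU : (autInducedBy T P).map (MulAut.congr e).toMonoidHom = autInducedBy T P' := by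
    ext β
    constructor
    · rintro ⟨α, hα, rfl⟩
      obtain ⟨t, ht, hte⟩ := (H802.mem_autInducedBy_iff _ _ _).1 hα
      refine (H802.mem_autInducedBy_iff _ _ _).2 ⟨a₀ t, ha₀T t ht, ?_⟩
      rintro ⟨y', hy'⟩
      obtain ⟨y, hy, rfl⟩ := (hP' y').1 hy'
      obtain ⟨h1, h2⟩ := trA_congr he α y hy
      refine h2.trans ?_
      rw [hte, ha₀.mul (mul_mem ht (hPT hy)) (inv_mem ht), ha₀.mul ht (hPT hy), ha₀.inv ht]
    · intro hβ
      refine ⟨(MulAut.congr e).symm β, ?_, (MulAut.congr e).apply_symm_apply β⟩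
      obtain ⟨t, ht, hte⟩ := (H802.mem_autInducedBy_iff _ _ _).1 hβ
      have h1 := trA_congr he ((MulAut.congr e).symm β)
      rw [MulEquiv.apply_symm_apply] at h1
      have h3 := h1.symm hP' fun x hx => hb1 x (hPT hx)
      refine (H802.mem_autInducedBy_iff _ _ _).2 ⟨b₀ t, (hb2 t ht).1, ?_⟩
      rintro ⟨y, hy⟩
      have hay : a₀ y ∈ P' := hP'.mem hy
      obtain ⟨h4, h5⟩ := h3 (a₀ y) hay
      have h6 : (⟨b₀ (a₀ y), h4⟩ : P) = ⟨y, hy⟩ := Subtype.ext (hb1 y (hPT hy))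
      rw [h6] at h5
      have hay' := hP'T hay
      refine h5.trans ?_
      rw [hte, hb₀.mul (mul_mem ht hay') (inv_mem ht), hb₀.mul ht hay', hb₀.inv ht,
        hb1 y (hPT hy)]
  have hinj : Function.Injective (MulAut.congr e).toMonoidHom := (MulAut.congr e).injective
  have hcard : ∀ V : Subgroup (MulAut P),
      Nat.card (V.map (MulAut.congr e).toMonoidHom) = Nat.card V := fun V =>
    Nat.card_congr (V.equivMapOfInjective _ hinj).symm.toEquiv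
  refine ⟨h.A_T P hPP, ?_⟩
  have h7 := (h.syl P' hP'P hP'n).2
  rw [← hA, ← hU, hcard, hcard] at h7
  exact h7

end NMap

end Cfsg.Agent.H754
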