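import Cfsg.Agent.H754.TInd

/-!
# Normal maps: restrictions, the Frattini condition, good subgroups (helper754)
-/

set_option autoImplicit false

namespace Cfsg.Agent.H754

open Cfsg Cfsg.FusionSystem Cfsg.Agent.H752

variable {Ω : Type*} [Group Ω] {S T : Subgroup Ω}

theorem isPGroup_zpowers {G : Type*} [Group G] {p : ℕ} {α : G} {k : ℕ} (hk : α ^ p ^ k = 1) :
    IsPGroup p (Subgroup.zpowers α) := by
  rintro ⟨b, hb⟩
  obtain ⟨n, rfl⟩ := Subgroup.mem_zpowers_iff.1 hb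
  refine ⟨k, Subtype.ext ?_⟩
  show (α ^ n) ^ p ^ k = 1
  rw [← zpow_natCast, ← zpow_mul, mul_comm, zpow_mul, zpow_natCast, hk, one_zpow]

theorem TrA.pow_eq_one {F : FusionSystem S} {P Q : Subgroup Ω} {f : Ω → Ω} {α : MulAut P}
    {β : MulAut Q} (hf : Mp F P f) (hQ : Im f P Q) (h : TrA f α β) {n : ℕ} (hn : α ^ n = 1) :
    β ^ n = 1 := by
  obtain ⟨e, he⟩ := exists_equiv hf hQ
  rw [h.eq_congr he hQ, ← map_pow, hn, map_one]

variable {F : FusionSystem S} {p : ℕ} {PP : Set (Subgroup Ω)}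
  {A : ∀ P : Subgroup Ω, Subgroup (MulAut P)}

namespace NMap

variable (h : NMap F T p PP A)

include h

/-- Elements of `A X` of `p`-power order are induced by elements of `T` on a conjugate. -/
theorem exists_conj_T [Finite S] [Fact p.Prime] (hS : IsPGroup p S) (hF : F.IsSaturated p)
    {X : Subgroup Ω} (hX : X ∈ PP) {α : MulAut X} (hα : α ∈ A X) {k : ℕ} (hk : α ^ p ^ k = 1) :
    ∃ (ψ : Ω → Ω) (X' : Subgroup Ω) (t : Ω), Mp F X ψ ∧ Im ψ X X' ∧ t ∈ T ∧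
      ∀ (x : Ω) (hx : x ∈ X), ψ (α ⟨x, hx⟩ : X) = t * ψ x * t⁻¹ := by
  have hXS := h.leS hX
  obtain ⟨X', hXX', hX'n⟩ := H802.exists_isFullyNormalized hS hF hXS
  obtain ⟨φ, hφ, hφi⟩ := exists_im_of_isConj hXX'
  have hX' : X' ∈ PP := h.image X hX φ X' hφ hφi
  have hfX' : Finite X' := H802.finite_of_le (h.leS hX')
  obtain ⟨β, hβ⟩ := exists_tr hφ hφi α
  have hβA : β ∈ A X' := h.A_tr X hX φ X' hφ hφi α hα β hβ
  have hβk : β ^ p ^ k = 1 := hβ.pow_eq_one hφ hφi hk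
  have hfA : Finite (A X') := inferInstance
  obtain ⟨a, ha, hab⟩ := (h.syl X' hX' hX'n).exists_conj (Subgroup.zpowers_le.2 hβA)
    (isPGroup_zpowers hβk)
  obtain ⟨t, ht, hte⟩ := (H802.mem_autInducedBy_iff _ _ _).1 (hab β (Subgroup.mem_zpowers β))
  have haF := (mp_iff_autGroup (h.leS hX') a).1 (h.A_le X' hX' ha)
  refine ⟨fun x => ex (fun x => ((a x : X') : Ω)) (φ x), X', t,
    hφ.comp haF fun x hx => hφi.mem hx, ?_, ht, ?_⟩
  · intro y
    constructor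
    · intro hy
      obtain ⟨x, hx, hxy⟩ := (hφi _).1 (a⁻¹ ⟨y, hy⟩).2
      refine ⟨x, hx, ?_⟩
      show ex (fun x => ((a x : X') : Ω)) (φ x) = y
      rw [ex_apply _ (hφi.mem hx)]
      have h1 : (⟨φ x, hφi.mem hx⟩ : X') = a⁻¹ ⟨y, hy⟩ := Subtype.ext hxy
      rw [h1, MulAut.apply_inv_self]
    · rintro ⟨x, hx, rfl⟩
      show ex (fun x => ((a x : X') : Ω)) (φ x) ∈ X'
      rw [ex_apply _ (hφi.mem hx)]
      exact (a _).2
  · intro x hx
    obtain ⟨h1, h2⟩ := hβ x hx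
    show ex (fun x => ((a x : X') : Ω)) (φ (α ⟨x, hx⟩ : X)) =
      t * ex (fun x => ((a x : X') : Ω)) (φ x) * t⁻¹
    rw [ex_apply _ h1, ex_apply _ (hφi.mem (α ⟨x, hx⟩).2)]
    have h3 := hte (a ⟨φ x, h1⟩)
    rw [← h3, MulAut.mul_apply, MulAut.mul_apply, MulAut.inv_apply_self]
    congr 2
    exact Subtype.ext h2.symm

/-- Elements of `A R` which leave `P` invariant restrict to elements of `A P`. -/
theorem res_full [Finite S] [Fact p.Prime] (hS : IsPGroup p S) (hF : F.IsSaturated p)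
    {R P : Subgroup Ω} (hR : R ∈ PP) (hP : P ∈ PP) (hPR : P ≤ R) {α : MulAut R} (hα : α ∈ A R)
    {β : MulAut P} (hβ : Restr hPR β α) : β ∈ A P := by
  have hfR : Finite R := H802.finite_of_le (h.leS hR)
  obtain ⟨a, b, hab, ⟨k, hk⟩, hb⟩ := TwoFusion.PResidual.exists_pPart_mul_pPrimePart p α
  have h1 : β ^ b ∈ A P := h.res R hR P hP hPR (α ^ b) (Subgroup.zpow_mem _ hα b) hb _ (hβ.zpow b)
  have h2 : β ^ a ∈ A P := by
    have hka : (α ^ a) ^ p ^ k = 1 := by rw [← hk]; exact pow_orderOf_eq_one _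
    obtain ⟨ψ, X', t, hψ, hψi, ht, hψt⟩ := h.exists_conj_T hS hF hR
      (Subgroup.zpow_mem _ hα a) hka
    have hψP := hψ.res hPR
    obtain ⟨P', hP', -⟩ := exists_image hψP
    have hP'P : P' ∈ PP := h.image P hP ψ P' hψP hP'
    have hβa := hβ.zpow a
    have hval : ∀ (x : Ω) (hx : x ∈ P), t * ψ x * t⁻¹ = ψ ((β ^ a) ⟨x, hx⟩ : P) := by
      intro x hx
      rw [← hψt x (hPR hx), hβa x hx]
    obtain ⟨c, hc⟩ := exists_conj (h.leS hP'P) (t := t) fun y hy => by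
      obtain ⟨x, hx, rfl⟩ := (hP' y).1 hy
      rw [hval x hx]
      exact hP'.mem ((β ^ a) ⟨x, hx⟩).2
    have hcA : c ∈ A P' := h.A_T P' hP'P ((H802.mem_autInducedBy_iff _ _ _).2 ⟨t, ht, hc⟩)
    obtain ⟨ψ', hψ', hψ'i, hψ'1, hψ'2⟩ := exists_inverse hψP hP'
    refine h.A_tr P' hP'P ψ' P hψ' hψ'i c hcA _ ?_
    have htr : TrA ψ (β ^ a) c := by
      intro x hx
      refine ⟨hP'.mem hx, ?_⟩
      rw [hc, hval x hx]
    exact htr.symm hP' hψ'1
  have h3 : β = β ^ a * β ^ b := by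
    refine hβ.unique (β := α) ?_
    conv_rhs => rw [hab]
    exact (hβ.zpow a).mul (hβ.zpow b)
  rw [h3]
  exact mul_mem h2 h1

theorem tc {P : Subgroup Ω} (hP : P ∈ PP) : H756.TC F T P := by
  refine ⟨h.le P hP, fun f hf z hz hc => ?_⟩
  obtain ⟨Q, hQ, -⟩ := exists_image hf
  have hQP := h.image P hP f Q hf hQ
  refine (hQ z).1 (h.cent Q hQP z hz fun y hy => ?_)
  obtain ⟨x, hx, rfl⟩ := (hQ y).1 hy
  exact hc x hx

/-- An element of `A X` trivial on `P`, `P` normal in `X`, is an inner automorphism from `P`. -/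
theorem fix_eq [Finite S] [Fact p.Prime] (hS : IsPGroup p S) (hF : F.IsSaturated p)
    {X P : Subgroup Ω} (hX : X ∈ PP) (hP : P ∈ PP) (hPX : P ≤ X)
    (hXn : X ≤ Subgroup.normalizer (P : Set Ω)) {α : MulAut X} (hα : α ∈ A X)
    (hfix : ∀ (x : Ω) (hx : x ∈ P), (α ⟨x, hPX hx⟩ : Ω) = x) :
    ∃ z ∈ P, ∀ (x : Ω) (hx : x ∈ X), (α ⟨x, hx⟩ : Ω) = z * x * z⁻¹ := by
  obtain ⟨k, hk⟩ := H756.pow_eq_one_of_fix hS h.hT (h.tc hP) hPX (h.le X hX) hXn
    (h.A_le X hX hα) hfix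
  obtain ⟨ψ, X', t, hψ, hψi, ht, hψt⟩ := h.exists_conj_T hS hF hX hα hk
  have hψP := hψ.res hPX
  obtain ⟨P', hP', -⟩ := exists_image hψP
  have hP'P : P' ∈ PP := h.image P hP ψ P' hψP hP'
  have htP' : t ∈ P' := by
    refine h.cent P' hP'P t ht fun y hy => ?_
    obtain ⟨x, hx, rfl⟩ := (hP' y).1 hy
    have h1 := hψt x (hPX hx)
    rw [hfix x hx] at h1
    calc ψ x * t = t * ψ x * t⁻¹ * t := by rw [← h1]
      _ = t * ψ x := by group
  obtain ⟨z, hz, rfl⟩ := (hP' t).1 htP'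
  refine ⟨z, hz, fun x hx => ?_⟩
  have h1 := hψt x hx
  have hzX := hPX hz
  rw [← hψ.inv hzX, ← hψ.mul hzX hx, ← hψ.mul (mul_mem hzX hx) (inv_mem hzX)] at h1
  exact hψ.inj (α ⟨x, hx⟩).2 (mul_mem (mul_mem hzX hx) (inv_mem hzX)) h1

/-- **The Frattini condition** for maps between members of `PP`. -/
theorem frat [Finite S] [Fact p.Prime] (hS : IsPGroup p S) (hF : F.IsSaturated p)
    {P : Subgroup Ω} {f : Ω → Ω} (hP : P ∈ PP) (hf : Mp F P f) : FratC h.sys F P f := by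
  have hTS := h.TS
  have hfT : Finite T := H802.finite_of_le hTS
  have hI := h.invC_sys
  refine mp_induction_T F hS hF h.hT (fun P f => P ∈ PP → FratC h.sys F P f) ?_ ?_ ?_ ?_ ?_
    P f (h.le P hP) hf hP
  · intro P f g _ _ h1 he hP
    exact (h1 hP).congr he
  · intro P R f hPT _ h1 hR hRP
    exact (h1 (h.mono R hRP P hR hPT)).res hR
  · intro P Q f g hPT hQT hf hg h1 h2 hPQ hP
    obtain ⟨P', hP', -⟩ := exists_image hf
    have hQ : Q ∈ PP := by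
      refine h.mono P' (h.image P hP f P' hf hP') Q ?_ hQT
      intro y hy
      obtain ⟨x, hx, rfl⟩ := (hP' y).1 hy
      exact hPQ x hx
    exact (h1 hP).comp h.hT hI (h2 hQ) hPQ
  · intro P R f g hPT hRT hf h1 hg hinv hR
    have hP : P ∈ PP := by
      obtain ⟨R', hR', -⟩ := exists_image hg
      refine h.mono R' (h.image R hR g R' hg hR') P ?_ hPT
      intro y hy
      obtain ⟨x, hx, rfl⟩ := (hR' y).1 hy
      obtain ⟨z, hz, -, hgz⟩ := hinv x hx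
      rw [hgz]
      exact hz
    exact (h1 hP).symm h.hT hI hinv
  · intro Q hQT hQn IH f hf hfQ hQ
    by_cases hQe : Q = T
    · subst hQe
      exact ⟨f, hf, fun x => x, mp_id _ le_rfl, fun x _ => rfl⟩
    have hQS := h.leS hQ
    have hfQf : Finite Q := H802.finite_of_le hQS
    obtain ⟨α, hα, hαe⟩ := hf.exists_aut hfQ
    have hfi : Im f Q Q := fun y => ⟨fun hy => hf.surj hfQ hy, fun ⟨x, hx, hxy⟩ => hxy ▸ hfQ x hx⟩
    have hfA : Finite (A Q) := inferInstance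
    -- `α Aut_T(Q) α⁻¹ ≤ A Q`
    have hB : cj (autInducedBy T Q) α ≤ A Q := by
      rw [cj_le_iff]
      intro v hv
      refine h.A_tr Q hQ f Q hf hfi v (h.A_T Q hQ hv) _ ?_
      intro x hx
      refine ⟨hfQ x hx, ?_⟩
      have h1 : (⟨f x, hfQ x hx⟩ : Q) = α ⟨x, hx⟩ := Subtype.ext (hαe x hx)
      rw [h1, MulAut.mul_apply, MulAut.mul_apply, MulAut.inv_apply_self, hαe _ (v ⟨x, hx⟩).2]
    have hBp : IsPGroup p (cj (autInducedBy T Q) α) :=
      (H802.isPGroup_autInducedBy (hS.to_le hTS) Q).map _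
    obtain ⟨κ, hκ, hκB⟩ := (h.syl Q hQ hQn).exists_conj hB hBp
    have hκF := (mp_iff_autGroup hQS κ).1 (h.A_le Q hQ hκ)
    have hκv : ∀ (x : Ω) (hx : x ∈ Q), ex (fun x => ((κ x : Q) : Ω)) x = (κ ⟨x, hx⟩ : Q) :=
      fun x hx => ex_apply _ hx
    have hf' : Mp F Q (fun x => ex (fun x => ((κ x : Q) : Ω)) (f x)) := hf.comp hκF hfQ
    have hf'v : ∀ (x : Ω) (hx : x ∈ Q), ex (fun x => ((κ x : Q) : Ω)) (f x) =
        ((κ * α) ⟨x, hx⟩ : Q) := by
      intro x hx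
      rw [hκv _ (hfQ x hx), MulAut.mul_apply]
      congr 2
      exact Subtype.ext (hαe x hx)
    have hrec := H802.isReceptive_of_isFullyNormalized hS hF hQn
    obtain ⟨k, hk, hke⟩ := mp_extend hrec hf' (fun y => by
        constructor
        · intro hy
          refine ⟨(((κ * α)⁻¹ ⟨y, hy⟩ : Q) : Ω), ((κ * α)⁻¹ _).2, ?_⟩
          show ex (fun x => ((κ x : Q) : Ω)) (f (((κ * α)⁻¹ ⟨y, hy⟩ : Q) : Ω)) = y
          rw [hf'v _ ((κ * α)⁻¹ ⟨y, hy⟩).2]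
          have h2 : (⟨(((κ * α)⁻¹ ⟨y, hy⟩ : Q) : Ω), ((κ * α)⁻¹ ⟨y, hy⟩).2⟩ : Q) =
            (κ * α)⁻¹ ⟨y, hy⟩ := rfl
          rw [h2, MulAut.apply_inv_self]
        · rintro ⟨x, hx, rfl⟩
          show ex (fun x => ((κ x : Q) : Ω)) (f x) ∈ Q
          rw [hf'v x hx]
          exact ((κ * α) _).2) (N := normalizerIn T Q) (H802.le_normalizerIn hQT) (by
        intro g hg
        refine ⟨hTS hg.1, hg.2, ?_⟩
        obtain ⟨c, hc⟩ := H802.exists_conjAut hg.2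
        have hcT : c ∈ autInducedBy T Q := (H802.mem_autInducedBy_iff _ _ _).2 ⟨g, hg.1, hc⟩
        obtain ⟨t, ht, hte⟩ := (H802.mem_autInducedBy_iff _ _ _).1
          (hκB _ (conj_mem_cj (g := α) hcT))
        refine ⟨t, hTS ht, fun x hx => ?_⟩
        have hgx : g * x * g⁻¹ ∈ Q := (Subgroup.mem_normalizer_iff.1 hg.2 x).1 hx
        show ex (fun x => ((κ x : Q) : Ω)) (f (g * x * g⁻¹)) =
          t * ex (fun x => ((κ x : Q) : Ω)) (f x) * t⁻¹
        rw [hf'v x hx, hf'v _ hgx, ← hte]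
        have h3 : κ * (α * c * α⁻¹) * κ⁻¹ * (κ * α) = κ * α * c := by group
        have h4 : (κ * (α * c * α⁻¹) * κ⁻¹) ((κ * α) ⟨x, hx⟩) =
          (κ * (α * c * α⁻¹) * κ⁻¹ * (κ * α)) ⟨x, hx⟩ := rfl
        rw [h4, h3]
        show _ = (((κ * α) (c ⟨x, hx⟩) : Q) : Ω)
        congr 2
        exact Subtype.ext (hc ⟨x, hx⟩).symm)
    have hlt := card_lt_normalizerIn_T hS hTS hQT hQe
    have hQN := H802.le_normalizerIn hQT
    have h1 := IH (normalizerIn T Q) k inf_le_left hk hlt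
      (h.mono Q hQ _ hQN inf_le_left)
    have h2 : FratC h.sys F Q (fun x => ex (fun x => ((κ x : Q) : Ω)) (f x)) :=
      (h1.res hQN).congr fun x hx => (hke x hx).symm
    have h3 : FratC h.sys F Q (ex fun x => ((κ⁻¹ x : Q) : Ω)) :=
      FratC.of_mp hTS (h.mp_of_A hQ (inv_mem hκ) fun x hx => ex_apply _ hx)
    have h4 := h2.comp h.hT hI h3 fun x hx => by
      show ex (fun x => ((κ x : Q) : Ω)) (f x) ∈ Q
      rw [hf'v x hx]
      exact ((κ * α) _).2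
    refine h4.congr fun x hx => ?_
    show f x = ex (fun x => ((κ⁻¹ x : Q) : Ω)) (ex (fun x => ((κ x : Q) : Ω)) (f x))
    rw [hκv _ (hfQ x hx), ex_apply _ (κ _).2]
    show f x = (((κ⁻¹ (κ ⟨f x, hfQ x hx⟩) : Q)) : Ω)
    rw [MulAut.inv_apply_self]

end NMap

/-- Members of `PP` with a fully normalized image under `Aut_F(T)`. -/
def Good (F : FusionSystem S) (T : Subgroup Ω) (PP : Set (Subgroup Ω)) (P : Subgroup Ω) : Prop :=
  P ∈ PP ∧ ∃ a P', Mp F T a ∧ Im a P P' ∧ F.IsFullyNormalized P'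

namespace NMap

variable (h : NMap F T p PP A)

include h

/-- Every member of `PP` is carried to a good one by a map of the system defined on its normalizer in `T`. -/
theorem exists_good [Finite S] [Fact p.Prime] (hS : IsPGroup p S) (hF : F.IsSaturated p)
    {P : Subgroup Ω} (hP : P ∈ PP) : ∃ δ P₁, Mp h.sys (normalizerIn T P) δ ∧ Im δ P P₁ ∧
      Good F T PP P₁ := by
  have hPT := h.le P hP
  obtain ⟨P', hPP', hP'n⟩ := H802.exists_isFullyNormalized hS hF (h.leS hP)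
  obtain ⟨φ, hφ, hφi⟩ := exists_im_of_isConj hPP'
  obtain ⟨ψ, hψ, hψi, -, -⟩ := exists_normalizer_map hS hF hφ hφi hP'n
  have hψT := hψ.res (normalizerIn_mono h.TS P)
  have hPN := H802.le_normalizerIn hPT
  obtain ⟨a, ha, δ, hδ, h1⟩ := h.frat hS hF (h.mono P hP _ hPN inf_le_left) hψT
  obtain ⟨P₁, hP₁, -⟩ := exists_image (hδ.res hPN)
  refine ⟨δ, P₁, hδ, hP₁, h.image P hP δ P₁ (mp_mono h.sys_le (hδ.res hPN)) hP₁, a, P', ha, ?_,
    hP'n⟩
  intro y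
  rw [hψi y]
  constructor
  · rintro ⟨x, hx, rfl⟩
    exact ⟨δ x, hP₁.mem hx, (h1 x (hPN hx)).symm⟩
  · rintro ⟨z, hz, rfl⟩
    obtain ⟨x, hx, rfl⟩ := (hP₁ z).1 hz
    exact ⟨x, hx, h1 x (hPN hx)⟩

end NMap

end Cfsg.Agent.H754
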