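import Cfsg.Agent.H754.NMapMain
import Cfsg.Agent.S5110

/-!
# Normal maps: invariance and saturation of the generated system (helper754)
-/

set_option autoImplicit false

namespace Cfsg.Agent.H754

open Cfsg Cfsg.FusionSystem Cfsg.Agent.H752

variable {Ω : Type*} [Group Ω] {S T : Subgroup Ω}
variable {F : FusionSystem S} {p : ℕ} {PP : Set (Subgroup Ω)}
  {A : ∀ P : Subgroup Ω, Subgroup (MulAut P)}

/-- The automorphisms in `F` of the fully normalized subgroups of `T` outside `PP` extend to larger subgroups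
of `T`. -/
def ExtOutside (F : FusionSystem S) (T : Subgroup Ω) (PP : Set (Subgroup Ω)) : Prop :=
  ∀ Q : Subgroup Ω, Q ≤ T → Q ∉ PP → F.IsFullyNormalized Q → ∀ f : Ω → Ω, Mp F Q f →
    (∀ x ∈ Q, f x ∈ Q) → ∃ R : Subgroup Ω, Q < R ∧ R ≤ T ∧ ∃ g, Mp F R g ∧ ∀ x ∈ Q, g x = f x

/-- Every centric subgroup outside `PP` has a conjugate `Q` with `Aut_T(Q) ∩ O_p(Aut(Q)) ≰ Inn(Q)`. -/
def StarOutside (E : FusionSystem T) (p : ℕ) (PP : Set (Subgroup Ω)) : Prop :=
  ∀ P : Subgroup Ω, E.IsCentric P → P ∉ PP → ∃ Q, E.IsConj P Q ∧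
    ¬ (Cfsg.autInducedBy T Q ⊓ (Cfsg.pCore p ↥(E.autGroup Q)).map (E.autGroup Q).subtype ≤
      Cfsg.Inn Q)

namespace NMap

variable (h : NMap F T p PP A)

include h

/-- **The Frattini condition** for all maps between subgroups of `T`. -/
theorem frat_all [Finite S] [Fact p.Prime] (hS : IsPGroup p S) (hF : F.IsSaturated p)
    (hE : ExtOutside F T PP) (P : Subgroup Ω) (f : Ω → Ω) (hPT : P ≤ T) (hf : Mp F P f) :
    FratC h.sys F P f := by
  have hTS := h.TS
  have hfT : Finite T := H802.finite_of_le hTS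
  have hI := h.invC_sys
  refine mp_induction_T F hS hF h.hT (fun P f => FratC h.sys F P f) ?_ ?_ ?_ ?_ ?_ P f hPT hf
  · intro P f g _ _ h1 he
    exact h1.congr he
  · intro P R f _ _ h1 hR
    exact h1.res hR
  · intro P Q f g _ _ _ _ h1 h2 hPQ
    exact h1.comp h.hT hI h2 hPQ
  · intro P R f g _ _ _ h1 _ hinv
    exact h1.symm h.hT hI hinv
  · intro Q hQT hQn IH f hf hfQ
    by_cases hQ : Q ∈ PP
    · exact h.frat hS hF hQ hf
    · obtain ⟨R, hQR, hRT, g, hg, hge⟩ := hE Q hQT hQ hQn f hf hfQ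
      have hfR : Finite R := H802.finite_of_le (hRT.trans hTS)
      have hlt : Nat.card Q < Nat.card R := by
        refine lt_of_le_of_ne (Nat.card_mono (Set.toFinite _) hQR.le) (fun e => ?_)
        exact hQR.ne (Subgroup.eq_of_le_of_card_ge hQR.le e.ge)
      exact ((IH R g hRT hg hlt).res hQR.le).congr fun x hx => (hge x hx).symm

theorem isInvariantIn [Finite S] [Fact p.Prime] (hS : IsPGroup p S) (hF : F.IsSaturated p)
    (hE : ExtOutside F T PP) : h.sys.IsInvariantIn F := by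
  have hfT : Finite T := H802.finite_of_le h.TS
  exact isInvariantIn_iff.2 ⟨h.sys_le, h.hT, h.invC_sys, h.frat_all hS hF hE⟩

/-- The generated system is the smallest one containing its maps on the members of `PP`. -/
theorem sys_le_of [Finite S] {E : FusionSystem T}
    (hE : ∀ P ∈ PP, ∀ a ∈ A P, a ∈ E.autGroup P) : h.sys ≤ E := by
  have key : ∀ (P : Subgroup Ω) (f : Ω → Ω), NG PP A P f → Mp E P f := by
    intro P f hf
    induction hf with
    | base R P a f hR ha hPR h1 =>
      refine (((mp_iff_autGroup (h.le R hR) a).1 (hE R hR a ha)).res hPR).congr fun x hx => ?_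
      rw [h1 x hx (hPR hx), ex_apply _ (hPR hx)]
    | comp P Q f g k _ _ hPQ h1 ih1 ih2 =>
      exact (ih1.comp ih2 hPQ).congr h1
  exact isSubsystemOf_of_mp fun P f hf => key P f (h.mp_sys_iff.1 hf)

/-- **Saturation of the generated system.** -/
theorem isSaturated [Finite S] [Fact p.Prime] (hS : IsPGroup p S) (hF : F.IsSaturated p)
    (hstar : StarOutside h.sys p PP) : h.sys.IsSaturated p := by
  have hfT : Finite T := H802.finite_of_le h.TS
  refine Cfsg.Agent.S5110.result p (hS.to_le h.TS) h.sys PP h.le ?_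
    (fun P hP => h.sat_on_PP hS hF hP) ?_ hstar
  · intro P hP Q hPQ
    obtain ⟨f, hf, hfi⟩ := exists_im_of_isConj hPQ
    exact h.image P hP f Q (mp_mono h.sys_le hf) hfi
  · intro E hE
    refine h.sys_le_of fun P hP a ha => ?_
    have h1 := h.A_le_sys hP ha
    rw [H802.mem_autGroup_iff _ (h.le P hP)] at h1 ⊢
    exact hE P hP h1

theorem isWeaklyNormalIn [Finite S] [Fact p.Prime] (hS : IsPGroup p S) (hF : F.IsSaturated p)
    (hE : ExtOutside F T PP) (hstar : StarOutside h.sys p PP) : h.sys.IsWeaklyNormalIn F p :=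
  ⟨h.isSaturated hS hF hstar, hF, h.isInvariantIn hS hF hE⟩

end NMap

/-! ### The family of all `T`-centric subgroups -/

/-- The family of the `T`-centric subgroups of `T`. -/
def TCs (F : FusionSystem S) (T : Subgroup Ω) : Set (Subgroup Ω) := {P | H756.TC F T P}

theorem extOutside_tcs [Finite S] [Fact p.Prime] (hS : IsPGroup p S) (hF : F.IsSaturated p)
    (hT : F.StronglyClosed T) : ExtOutside F T (TCs F T) := by
  intro Q hQT hQ hQn f hf hfQ
  have hTS := hT.1
  have hQS := hQT.trans hTS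
  have hfinQ : Finite Q := H802.finite_of_le hQS
  have hrec := H802.isReceptive_of_isFullyNormalized hS hF hQn
  -- an element of `C_T(Q)` outside `Q`
  have hex : ∃ z ∈ centralizerIn T Q, z ∉ Q := by
    by_contra hno
    push Not at hno
    refine hQ ⟨hQT, fun g hg z hz hc => ?_⟩
    obtain ⟨Q', hQ', hQ'S⟩ := exists_image hg
    obtain ⟨g', hg', hg'i, hg'1, hg'2⟩ := exists_inverse hg hQ'
    have hN : Q' ⊔ centralizerIn S Q' ≤ S := sup_le hQ'S inf_le_left
    obtain ⟨φ, hφ, hφe⟩ := hg'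
    have hφr : φ.range = Q := by
      ext y
      constructor
      · rintro ⟨x, rfl⟩
        rw [show φ x = g' x from hφe x x.2]
        exact hg'i.mem x.2
      · intro hy
        obtain ⟨x, hx, rfl⟩ := (hg'i y).1 hy
        exact ⟨⟨x, hx⟩, hφe x hx⟩
    obtain ⟨ψ, hψ, hψe⟩ := hrec.2 Q' φ hφ hφr
    have hQ'e : Q' ≤ extender S Q' φ := H802.le_extender hQ'S (H802.hom_apply_mem hφ)
    have hCe : centralizerIn S Q' ≤ extender S Q' φ := H802.centralizerIn_le_extender S Q' φ
    have hψm : Mp F (extender S Q' φ) (ex ψ) := mp_ex hψ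
    have hψv : ∀ x ∈ Q', ex ψ x = g' x := fun x hx => by
      rw [ex_apply _ (hQ'e hx), hψe x hx (hQ'e hx), hφe]
    have hzC : z ∈ centralizerIn S Q' := ⟨hTS hz, Subgroup.mem_centralizer_iff.2 fun y hy => by
      obtain ⟨x, hx, rfl⟩ := (hQ' y).1 hy
      exact hc x hx⟩
    have hze := hCe hzC
    have hz' : ex ψ z ∈ Q := by
      refine hno _ ⟨mp_mem_of_stronglyClosed hT hψm hze hz,
        Subgroup.mem_centralizer_iff.2 fun y hy => ?_⟩
      obtain ⟨x, hx, rfl⟩ := (hg'i y).1 hy
      rw [← hψv x hx, ← hψm.mul (hQ'e hx) hze, ← hψm.mul hze (hQ'e hx),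
        Subgroup.mem_centralizer_iff.1 hzC.2 x hx]
    obtain ⟨x, hx, hxz⟩ := (hg'i _).1 hz'
    rw [← hψv x hx] at hxz
    have h1 : x = z := hψm.inj (hQ'e hx) hze hxz
    rw [← h1]
    exact (hQ' x).1 hx
  obtain ⟨z, hz, hzQ⟩ := hex
  obtain ⟨φ, hφ, hφe⟩ := id hf
  have hφr : φ.range = Q := H802.range_eq_of_mapsTo hφ fun x => by
    rw [hφe x x.2]
    exact hfQ x x.2
  obtain ⟨ψ, hψ, hψe⟩ := hrec.2 Q φ hφ hφr
  have hQe : Q ≤ extender S Q φ := H802.le_extender hQS (H802.hom_apply_mem hφ)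
  have hCe : centralizerIn S Q ≤ extender S Q φ := H802.centralizerIn_le_extender S Q φ
  have hCT : centralizerIn T Q ≤ centralizerIn S Q := inf_le_inf_right _ hTS
  refine ⟨Q ⊔ centralizerIn T Q, ?_, sup_le hQT inf_le_left, ex ψ,
    (mp_ex hψ).res (sup_le hQe (hCT.trans hCe)), fun x hx => ?_⟩
  · refine lt_of_le_of_ne le_sup_left fun e => hzQ ?_
    rw [e]
    exact (le_sup_right : centralizerIn T Q ≤ _) hz
  · rw [ex_apply _ (hQe hx), hψe x hx (hQe hx), hφe]

theorem starOutside_tcs [Finite T] {E : FusionSystem T} (hE : E.IsInvariantIn F) :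
    StarOutside E p (TCs F T) := by
  intro P hP hPn
  exact absurd ((H756.isCentric_iff_tc hE).1 hP) hPn

/-- Normal maps on the family of all `T`-centric subgroups generate weakly normal subsystems. -/
theorem NMap.isWeaklyNormalIn_tcs [Finite S] [Fact p.Prime] (hS : IsPGroup p S)
    (hF : F.IsSaturated p) (h : NMap F T p (TCs F T) A) : h.sys.IsWeaklyNormalIn F p := by
  have hfT : Finite T := H802.finite_of_le h.TS
  have hE := extOutside_tcs hS hF h.hT
  exact h.isWeaklyNormalIn hS hF hE (starOutside_tcs (h.isInvariantIn hS hF hE))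

end Cfsg.Agent.H754
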