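import Cfsg.Agent.H754.NMapExt

/-!
# Normal maps: the automorphism groups and receptivity of the generated system (helper754)
-/

set_option autoImplicit false

namespace Cfsg.Agent.H754

open Cfsg Cfsg.FusionSystem Cfsg.Agent.H752

variable {Ω : Type*} [Group Ω] {S T : Subgroup Ω}
variable {F : FusionSystem S} {p : ℕ} {PP : Set (Subgroup Ω)}
  {A : ∀ P : Subgroup Ω, Subgroup (MulAut P)}

/-- Maps `Q → P` of the form `a ∘ ρ` with `ρ` defined on the normalizer of `Q` and `a ∈ A P`. -/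
def JJ (E : FusionSystem T) (A : ∀ P : Subgroup Ω, Subgroup (MulAut P)) (P Q : Subgroup Ω)
    (f : Ω → Ω) : Prop :=
  ∃ ρ, Mp E (normalizerIn T Q) ρ ∧ Im ρ Q P ∧
    ∃ a ∈ A P, ∀ x ∈ Q, ∀ hx : ρ x ∈ P, f x = (a ⟨ρ x, hx⟩ : P)

theorem mp_conj_val {E : FusionSystem T} {X : Subgroup Ω} {f : Ω → Ω} (hf : Mp E X f) {x y : Ω}
    (hx : x ∈ X) (hy : y ∈ X) : f (x * y * x⁻¹) = f x * f y * (f x)⁻¹ := by
  rw [hf.mul (mul_mem hx hy) (inv_mem hx), hf.mul hx hy, hf.inv hx]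

/-- The image of a subgroup normalizing `Q` normalizes the image of `Q`. -/
theorem image_normalizes [Finite T] {E : FusionSystem T} {X P Q : Subgroup Ω} {f : Ω → Ω}
    (hf : Mp E X f) (hQX : Q ≤ X) (hP : Im f Q P) {x : Ω} (hx : x ∈ X)
    (hxn : x ∈ Subgroup.normalizer (Q : Set Ω)) : f x ∈ Subgroup.normalizer (P : Set Ω) := by
  have hPT : P ≤ T := by
    intro y hy
    obtain ⟨z, hz, rfl⟩ := (hP y).1 hy
    exact hf.mem (hQX hz)
  refine H802.mem_normalizer_of_conj_mem hPT fun y hy => ?_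
  obtain ⟨z, hz, rfl⟩ := (hP y).1 hy
  rw [← mp_conj_val hf hx (hQX hz)]
  exact hP.mem ((Subgroup.mem_normalizer_iff.1 hxn z).1 hz)

namespace NMap

variable (h : NMap F T p PP A)

include h

theorem isReceptive_of_good_aux [Finite S] [Fact p.Prime] (hS : IsPGroup p S)
    (hF : F.IsSaturated p) {X P Q N X₂ : Subgroup Ω} {χ : Ω → Ω}
    (hQ : Q ∈ PP) (hQX : Q ≤ X) (hXQ : X ≤ Subgroup.normalizer (Q : Set Ω))
    (hχ : Mp h.sys X χ) (hχP : Im χ Q P) (hX₂ : Im χ X X₂) (h1 : h.sys.autGroup X₂ = A X₂)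
    (h2 : h.sys.IsReceptive X₂) (hXN : X ≤ N)
    (hN : ∀ g ∈ N, g ∈ T ∧ g ∈ Subgroup.normalizer (X : Set Ω) ∧
      g ∈ Subgroup.normalizer (Q : Set Ω) ∧ ∃ t ∈ T, ∀ x ∈ Q, χ (g * x * g⁻¹) = t * χ x * t⁻¹) :
    ∃ k, Mp h.sys N k ∧ ∀ x ∈ X, k x = χ x := by
  have hTS := h.TS
  have hfT : Finite T := H802.finite_of_le hTS
  have hXT : X ≤ T := hχ.le
  have hP : P ∈ PP := h.image Q hQ χ P (mp_mono h.sys_le (hχ.res hQX)) hχP
  have hX : X ∈ PP := h.mono Q hQ X hQX hXT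
  have hX₂P : X₂ ∈ PP := h.image X hX χ X₂ (mp_mono h.sys_le hχ) hX₂
  have hPX₂ : P ≤ X₂ := by
    intro y hy
    obtain ⟨x, hx, rfl⟩ := (hχP y).1 hy
    exact hX₂.mem (hQX hx)
  have hX₂T := h.le X₂ hX₂P
  have hX₂n : X₂ ≤ Subgroup.normalizer (P : Set Ω) := by
    intro y hy
    obtain ⟨x, hx, rfl⟩ := (hX₂ y).1 hy
    exact image_normalizes hχ hQX hχP hx (hXQ hx)
  obtain ⟨χ', hχ', hχ'i, hχ'1, hχ'2⟩ := exists_inverse hχ hX₂
  refine mp_extend h2 hχ hX₂ hXN fun g hg => ?_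
  obtain ⟨hgT, hgX, hgQ, t, ht, hte⟩ := hN g hg
  have hgXm : ∀ x ∈ X, g * x * g⁻¹ ∈ X := fun x hx => (Subgroup.mem_normalizer_iff.1 hgX x).1 hx
  have hgQm : ∀ x ∈ Q, g * x * g⁻¹ ∈ Q := fun x hx => (Subgroup.mem_normalizer_iff.1 hgQ x).1 hx
  refine ⟨hgT, hgX, ?_⟩
  -- `t` normalizes `X₂`
  have htX : ∀ y ∈ X₂, t * y * t⁻¹ ∈ X₂ := by
    intro y hy
    obtain ⟨x, hx, rfl⟩ := (hX₂ y).1 hy
    have hu : χ (g * x * g⁻¹) ∈ X₂ := hX₂.mem (hgXm x hx)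
    have hc : (t * χ x * t⁻¹)⁻¹ * χ (g * x * g⁻¹) ∈ P := by
      refine h.cent P hP _ (mul_mem (inv_mem (mul_mem (mul_mem ht (hχ.mem hx)) (inv_mem ht)))
        (hX₂T hu)) fun z hz => ?_
      obtain ⟨q₀, hq₀, rfl⟩ := (hχP z).1 hz
      obtain ⟨q, hq, hqe⟩ : ∃ q ∈ Q, g * q * g⁻¹ = q₀ := by
        refine ⟨g⁻¹ * q₀ * g, ?_, by group⟩
        have := (Subgroup.mem_normalizer_iff.1 (inv_mem hgQ) q₀).1 hq₀
        simpa using this
      have hqX := hQX hq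
      have e1 : χ (g * x * g⁻¹) * χ q₀ * (χ (g * x * g⁻¹))⁻¹ = t * (χ x * χ q * (χ x)⁻¹) * t⁻¹ := by
        rw [← mp_conj_val hχ (hgXm x hx) (hQX hq₀), ← mp_conj_val hχ hx hqX, ← hqe,
          ← hte _ ((Subgroup.mem_normalizer_iff.1 (hXQ hx) q).1 hq)]
        congr 1
        group
      have e2 : χ q₀ = t * χ q * t⁻¹ := by rw [← hqe, hte q hq]
      have e3 : (t * χ x * t⁻¹) * χ q₀ * (t * χ x * t⁻¹)⁻¹ = t * (χ x * χ q * (χ x)⁻¹) * t⁻¹ := by
        rw [e2]; group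
      have e4 := e1.trans e3.symm
      calc χ q₀ * ((t * χ x * t⁻¹)⁻¹ * χ (g * x * g⁻¹))
          = (t * χ x * t⁻¹)⁻¹ * ((t * χ x * t⁻¹) * χ q₀ * (t * χ x * t⁻¹)⁻¹) *
              χ (g * x * g⁻¹) := by group
        _ = (t * χ x * t⁻¹)⁻¹ * (χ (g * x * g⁻¹) * χ q₀ * (χ (g * x * g⁻¹))⁻¹) *
              χ (g * x * g⁻¹) := by rw [e4]
        _ = (t * χ x * t⁻¹)⁻¹ * χ (g * x * g⁻¹) * χ q₀ := by group
    have e5 : t * χ x * t⁻¹ = χ (g * x * g⁻¹) * ((t * χ x * t⁻¹)⁻¹ * χ (g * x * g⁻¹))⁻¹ := by group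
    rw [e5]
    exact mul_mem hu (inv_mem (hPX₂ hc))
  have htn : t ∈ Subgroup.normalizer (X₂ : Set Ω) := H802.mem_normalizer_of_conj_mem hX₂T htX
  -- the automorphism `γ` of `X₂`
  have hγ : Mp h.sys X₂ (fun y => t⁻¹ * χ (g * χ' y * g⁻¹) * t⁻¹⁻¹) :=
    ((hχ'.comp (mp_conj h.sys hXT hgT) fun y hy => hχ'i.mem hy).comp hχ
      fun y hy => hgXm _ (hχ'i.mem hy)).comp (mp_conj h.sys hX₂T (inv_mem ht))
      fun y hy => hX₂.mem (hgXm _ (hχ'i.mem hy))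
  have hγm : ∀ y ∈ X₂, t⁻¹ * χ (g * χ' y * g⁻¹) * t⁻¹⁻¹ ∈ X₂ := fun y hy =>
    (Subgroup.mem_normalizer_iff.1 (inv_mem htn) _).1 (hX₂.mem (hgXm _ (hχ'i.mem hy)))
  have hfX₂ : Finite X₂ := H802.finite_of_le hX₂T
  obtain ⟨γ, hγA, hγe⟩ := hγ.exists_aut hγm
  rw [h1] at hγA
  obtain ⟨z, hz, hze⟩ := h.fix_eq hS hF hX₂P hP hPX₂ hX₂n hγA (by
    intro y hy
    obtain ⟨q, hq, rfl⟩ := (hχP y).1 hy
    rw [← hγe _ (hPX₂ hy)]
    show t⁻¹ * χ (g * χ' (χ q) * g⁻¹) * t⁻¹⁻¹ = _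
    rw [hχ'1 q (hQX hq), hte q hq]
    group)
  refine ⟨t * z, mul_mem ht (h.le P hP hz), fun x hx => ?_⟩
  have h3 := hze (χ x) (hX₂.mem hx)
  rw [← hγe _ (hX₂.mem hx)] at h3
  have h4 : t⁻¹ * χ (g * x * g⁻¹) * t⁻¹⁻¹ = z * χ x * z⁻¹ := by
    rw [← h3]
    show _ = t⁻¹ * χ (g * χ' (χ x) * g⁻¹) * t⁻¹⁻¹
    rw [hχ'1 x hx]
  calc χ (g * x * g⁻¹) = t * (t⁻¹ * χ (g * x * g⁻¹) * t⁻¹⁻¹) * t⁻¹ := by group
    _ = t * (z * χ x * z⁻¹) * t⁻¹ := by rw [h4]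
    _ = t * z * χ x * (t * z)⁻¹ := by group

/-- Maps defined on a larger subgroup of the normalizer of `Q` which carry `Q` onto the good subgroup `P`. -/
theorem jj_of_larger [Finite S] [Fact p.Prime] (hS : IsPGroup p S) (hF : F.IsSaturated p)
    {P : Subgroup Ω} (hP : Good F T PP P)
    (IH : ∀ R ∈ PP, Nat.card P < Nat.card R → h.sys.autGroup R = A R ∧ h.sys.IsReceptive R)
    {Q : Subgroup Ω} (hQ : Q ∈ PP) : ∀ n : ℕ, ∀ (X : Subgroup Ω) (θ : Ω → Ω), Q ≤ X →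
      Nat.card P < Nat.card X → X ≤ normalizerIn T Q →
      Nat.card (normalizerIn T Q) - Nat.card X = n → Mp h.sys X θ → Im θ Q P →
      JJ h.sys A P Q θ := by
  have hTS := h.TS
  have hfT : Finite T := H802.finite_of_le hTS
  have hPP := hP.1
  have hPT := h.le P hPP
  have hQT := h.le Q hQ
  have hfP : Finite P := H802.finite_of_le hPT
  have hfA : Finite (A P) := inferInstance
  have hfN : Finite (normalizerIn T Q) := H802.finite_of_le inf_le_left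
  intro n
  induction n using Nat.strong_induction_on with
  | _ n ih =>
  intro X θ hQX hcX hXN hn hθ hθP
  by_cases hXe : X = normalizerIn T Q
  · subst hXe
    exact ⟨θ, hθ, hθP, 1, one_mem _, fun x hx hx' => rfl⟩
  have hXT : X ≤ T := hθ.le
  have hXQ : X ≤ Subgroup.normalizer (Q : Set Ω) := hXN.trans inf_le_right
  set N := normalizerIn T Q ⊓ Subgroup.normalizer (X : Set Ω) with hN
  have hlt : X < N := H802.lt_inf_normalizer (hS.to_le hTS) hXN inf_le_left hXe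
  have hNT : N ≤ T := inf_le_left.trans inf_le_left
  have hNQ : N ≤ Subgroup.normalizer (Q : Set Ω) := inf_le_left.trans inf_le_right
  have hfNf : Finite N := H802.finite_of_le hNT
  have hcXN : Nat.card X < Nat.card N := by
    refine lt_of_le_of_ne (Nat.card_mono (Set.toFinite _) hlt.le) (fun e => ?_)
    exact hlt.ne (Subgroup.eq_of_le_of_card_ge hlt.le e.ge)
  have hcN : Nat.card N ≤ Nat.card (normalizerIn T Q) :=
    Nat.card_mono (Set.toFinite _) (inf_le_left : N ≤ normalizerIn T Q)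
  -- the `p`-group `θ Aut_N(Q) θ⁻¹`
  obtain ⟨e, he⟩ := exists_equiv (hθ.res hQX) hθP
  have hV : (autInducedBy N Q).map (MulAut.congr e).toMonoidHom ≤ A P := by
    rintro _ ⟨α, hα, rfl⟩
    exact h.A_tr Q hQ θ P (mp_mono h.sys_le (hθ.res hQX)) hθP α
      (h.A_T Q hQ (autInducedBy_mono hNT hα)) _ (trA_congr he α)
  have hVp : IsPGroup p ((autInducedBy N Q).map (MulAut.congr e).toMonoidHom) :=
    (H802.isPGroup_autInducedBy ((hS.to_le hTS).to_le hNT) Q).map _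
  obtain ⟨b, hb, hbV⟩ := (h.syl_good hP).exists_conj hV hVp
  -- for `g ∈ N`
  have hgN : ∀ g ∈ N, ∃ t ∈ T, ∀ x ∈ Q, ∀ (h1 : θ x ∈ P) (h2 : θ (g * x * g⁻¹) ∈ P),
      ((b ⟨θ (g * x * g⁻¹), h2⟩ : P) : Ω) = t * (b ⟨θ x, h1⟩ : P) * t⁻¹ := by
    intro g hg
    obtain ⟨α, hα⟩ := H802.exists_conjAut (hNQ hg)
    have hαN : α ∈ autInducedBy N Q := (H802.mem_autInducedBy_iff _ _ _).2 ⟨g, hg, hα⟩
    obtain ⟨t, ht, hte⟩ := (H802.mem_autInducedBy_iff _ _ _).1 (hbV _ ⟨α, hαN, rfl⟩)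
    refine ⟨t, ht, fun x hx h1 h2 => ?_⟩
    obtain ⟨h3, h4⟩ := trA_congr he α x hx
    rw [← hte (b ⟨θ x, h1⟩), MulAut.mul_apply, MulAut.mul_apply, MulAut.inv_apply_self]
    congr 2
    refine Subtype.ext ?_
    show θ (g * x * g⁻¹) = _
    rw [← hα ⟨x, hx⟩]
    exact h4.symm
  -- extension of `b` to `θ(X)`
  obtain ⟨X₁, hX₁, -⟩ := exists_image hθ
  have hX₁T : X₁ ≤ T := by
    intro y hy
    obtain ⟨x, hx, rfl⟩ := (hX₁ y).1 hy
    exact hθ.mem hx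
  have hPX₁ : P ≤ X₁ := by
    intro y hy
    obtain ⟨x, hx, rfl⟩ := (hθP y).1 hy
    exact hX₁.mem (hQX hx)
  obtain ⟨b', hb', hb'e⟩ := h.ext_good hS hF hP hb hPX₁ hX₁T (by
    intro x₁ hx₁
    obtain ⟨x, hx, rfl⟩ := (hX₁ x₁).1 hx₁
    refine ⟨image_normalizes hθ hQX hθP hx (hXQ hx), ?_⟩
    obtain ⟨t, ht, hte⟩ := hgN x (hlt.le hx)
    refine ⟨t, ht, fun y hy hxy => ?_⟩
    obtain ⟨q, hq, rfl⟩ := (hθP y).1 hy
    have h5 := mp_conj_val hθ hx (hQX hq)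
    have h6 : θ (x * q * x⁻¹) ∈ P := by rw [h5]; exact hxy
    rw [← hte q hq hy h6]
    congr 2
    exact Subtype.ext h5.symm)
  have hχ : Mp h.sys X (fun x => b' (θ x)) := hθ.comp hb' fun x hx => hX₁.mem hx
  have hχv : ∀ x ∈ Q, ∀ hx : θ x ∈ P, b' (θ x) = (b ⟨θ x, hx⟩ : P) := fun x _ hx => hb'e _ hx
  have hχP : Im (fun x => b' (θ x)) Q P := by
    intro y
    constructor
    · intro hy
      obtain ⟨x, hx, hxy⟩ := (hθP _).1 (b⁻¹ ⟨y, hy⟩).2
      refine ⟨x, hx, ?_⟩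
      show b' (θ x) = y
      rw [hχv x hx (hθP.mem hx)]
      have h6 : (⟨θ x, hθP.mem hx⟩ : P) = b⁻¹ ⟨y, hy⟩ := Subtype.ext hxy
      rw [h6, MulAut.apply_inv_self]
    · rintro ⟨x, hx, rfl⟩
      show b' (θ x) ∈ P
      rw [hχv x hx (hθP.mem hx)]
      exact (b _).2
  obtain ⟨X₂, hX₂, -⟩ := exists_image hχ
  have hX₂P : X₂ ∈ PP := h.image X (h.mono Q hQ X hQX hXT) _ X₂ (mp_mono h.sys_le hχ) hX₂
  have hcX₂ : Nat.card X₂ = Nat.card X := card_image hχ hX₂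
  obtain ⟨hA₂, hR₂⟩ := IH X₂ hX₂P (by omega)
  obtain ⟨χ₂, hχ₂, hχ₂e⟩ := h.isReceptive_of_good_aux hS hF hQ hQX hXQ hχ hχP hX₂ hA₂ hR₂ hlt.le
    (by
      intro g hg
      refine ⟨hNT hg, hg.2, hNQ hg, ?_⟩
      obtain ⟨t, ht, hte⟩ := hgN g hg
      refine ⟨t, ht, fun x hx => ?_⟩
      have hgx : g * x * g⁻¹ ∈ Q := (Subgroup.mem_normalizer_iff.1 (hNQ hg) x).1 hx
      show b' (θ (g * x * g⁻¹)) = t * b' (θ x) * t⁻¹
      rw [hχv x hx (hθP.mem hx), hχv _ hgx (hθP.mem hgx)]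
      exact hte x hx _ _)
  obtain ⟨ρ, hρ, hρP, a, ha, hae⟩ := ih (Nat.card (normalizerIn T Q) - Nat.card N) (by omega) N χ₂
    (hQX.trans hlt.le) (by omega) inf_le_left rfl hχ₂ (hχP.congr fun x hx => hχ₂e x (hQX hx))
  refine ⟨ρ, hρ, hρP, b⁻¹ * a, mul_mem (inv_mem hb) ha, fun x hx hx' => ?_⟩
  have h7 := hae x hx hx'
  rw [hχ₂e x (hQX hx), hχv x hx (hθP.mem hx)] at h7
  have h8 : b ⟨θ x, hθP.mem hx⟩ = a ⟨ρ x, hx'⟩ := Subtype.ext h7
  rw [MulAut.mul_apply, ← h8, MulAut.inv_apply_self]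

/-- Precomposition with the maps of the system. -/
theorem jj_comp [Finite S] [Fact p.Prime] (hS : IsPGroup p S) (hF : F.IsSaturated p)
    {P : Subgroup Ω} (hP : Good F T PP P)
    (IH : ∀ R ∈ PP, Nat.card P < Nat.card R → h.sys.autGroup R = A R ∧ h.sys.IsReceptive R)
    {B : Subgroup Ω} {f : Ω → Ω} (hf : NG PP A B f) :
    ∀ Q₀ ≤ B, Q₀ ∈ PP → Nat.card Q₀ = Nat.card P → ∀ (Q' : Subgroup Ω) (g : Ω → Ω),
      Im f Q₀ Q' → JJ h.sys A P Q' g → JJ h.sys A P Q₀ (fun x => g (f x)) := by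
  have hTS := h.TS
  have hfT : Finite T := H802.finite_of_le hTS
  have hPT := h.le P hP.1
  induction hf with
  | base R B a f hR ha hBR h1 =>
    intro Q₀ hQ₀B hQ₀ hc Q' g hQ' hg
    have hQ₀R : Q₀ ≤ R := hQ₀B.trans hBR
    have hRT := h.le R hR
    have hfR : Finite R := H802.finite_of_le hRT
    have hfv : ∀ (x : Ω) (hx : x ∈ Q₀), f x = (a ⟨x, hQ₀R hx⟩ : R) := fun x hx =>
      h1 x (hQ₀B hx) (hQ₀R hx)
    have haR : Mp h.sys R (ex fun x => ((a x : R) : Ω)) := h.mp_of_A hR ha fun x hx => ex_apply _ hx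
    have haf : ∀ x ∈ Q₀, ex (fun x => ((a x : R) : Ω)) x = f x := fun x hx => by
      rw [hfv x hx, ex_apply _ (hQ₀R hx)]
    have hQ'a : Im (ex fun x => ((a x : R) : Ω)) Q₀ Q' := hQ'.congr haf
    obtain ⟨ρ, hρ, hρP, b, hb, hbe⟩ := hg
    have hQ'PP : Q' ∈ PP := h.image Q₀ hQ₀ _ Q' (mp_mono h.sys_le (haR.res hQ₀R)) hQ'a
    have hQ'T := h.le Q' hQ'PP
    have hQ'N : Q' ≤ normalizerIn T Q' := H802.le_normalizerIn hQ'T
    by_cases hQe : Q₀ = R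
    · subst hQe
      have hQ'Q : Q' = Q₀ := by
        ext y
        rw [hQ'a y]
        constructor
        · rintro ⟨x, hx, rfl⟩
          rw [ex_apply _ hx]
          exact (a _).2
        · intro hy
          refine ⟨_, (a⁻¹ ⟨y, hy⟩).2, ?_⟩
          rw [ex_apply _ (a⁻¹ ⟨y, hy⟩).2]
          have h6 : (⟨((a⁻¹ ⟨y, hy⟩ : Q₀) : Ω), (a⁻¹ ⟨y, hy⟩).2⟩ : Q₀) = a⁻¹ ⟨y, hy⟩ := rfl
          rw [h6, MulAut.apply_inv_self]
      subst hQ'Q
      have hρQ := hρ.res hQ'N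
      obtain ⟨β, hβ⟩ := exists_tr hρQ hρP a
      have hβA : β ∈ A P := h.A_tr Q' hQ₀ ρ P (mp_mono h.sys_le hρQ) hρP a ha β hβ
      refine ⟨ρ, hρ, hρP, b * β, mul_mem hb hβA, fun x hx hx' => ?_⟩
      obtain ⟨h2, h3⟩ := hβ x hx
      have h4 : f x ∈ Q' := by rw [hfv x hx]; exact (a _).2
      show g (f x) = _
      rw [hbe (f x) h4 (hρP.mem h4), MulAut.mul_apply]
      congr 2
      refine Subtype.ext ?_
      show ρ (f x) = _
      rw [h3, hfv x hx]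
    · set X := R ⊓ Subgroup.normalizer (Q₀ : Set Ω) with hX
      have hlt : Q₀ < X := H802.lt_inf_normalizer (hS.to_le (hRT.trans hTS)) hQ₀R le_rfl hQe
      have hXR : X ≤ R := inf_le_left
      have hfX : Finite X := H802.finite_of_le hXR
      have hcX : Nat.card Q₀ < Nat.card X := by
        refine lt_of_le_of_ne (Nat.card_mono (Set.toFinite _) hlt.le) (fun e => ?_)
        exact hlt.ne (Subgroup.eq_of_le_of_card_ge hlt.le e.ge)
      have haX := haR.res hXR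
      have hmap : ∀ x ∈ X, ex (fun x => ((a x : R) : Ω)) x ∈ normalizerIn T Q' := fun x hx =>
        ⟨haX.mem hx, image_normalizes haX hlt.le hQ'a hx hx.2⟩
      have hθ : Mp h.sys X (fun x => ρ (ex (fun x => ((a x : R) : Ω)) x)) := haX.comp hρ hmap
      obtain ⟨ρ', hρ', hρ'P, b', hb', hb'e⟩ := h.jj_of_larger hS hF hP IH hQ₀ _ X _ hlt.le
        (by omega) (le_inf (hXR.trans hRT) inf_le_right) rfl hθ (hQ'a.comp hρP)
      refine ⟨ρ', hρ', hρ'P, b * b', mul_mem hb hb', fun x hx hx' => ?_⟩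
      have h2 := hb'e x hx hx'
      have h2' : ρ (f x) = (b' ⟨ρ' x, hx'⟩ : P) := by
        rw [← h2]
        show ρ (f x) = ρ (ex (fun x => ((a x : R) : Ω)) x)
        rw [haf x hx]
      have h4 : f x ∈ Q' := hQ'.mem hx
      show g (f x) = _
      rw [hbe (f x) h4 (hρP.mem h4), MulAut.mul_apply]
      congr 2
      exact Subtype.ext h2'
  | comp B C f₁ f₂ k hf₁ hf₂ hBC h1 ih1 ih2 =>
    intro Q₀ hQ₀B hQ₀ hc Q' g hQ' hg
    have hf₁Q := (h.mpF hf₁).res hQ₀B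
    obtain ⟨Q₁, hQ₁, -⟩ := exists_image hf₁Q
    have hQ₁P : Q₁ ∈ PP := h.image Q₀ hQ₀ f₁ Q₁ hf₁Q hQ₁
    have hQ₁C : Q₁ ≤ C := by
      intro y hy
      obtain ⟨x, hx, rfl⟩ := (hQ₁ y).1 hy
      exact hBC x (hQ₀B hx)
    have hcQ₁ : Nat.card Q₁ = Nat.card P := (card_image hf₁Q hQ₁).trans hc
    have hQ'₂ : Im f₂ Q₁ Q' := by
      intro y
      rw [hQ' y]
      constructor
      · rintro ⟨x, hx, rfl⟩
        exact ⟨f₁ x, hQ₁.mem hx, (h1 x (hQ₀B hx)).symm⟩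
      · rintro ⟨z, hz, rfl⟩
        obtain ⟨x, hx, rfl⟩ := (hQ₁ z).1 hz
        exact ⟨x, hx, h1 x (hQ₀B hx)⟩
    have h3 := ih2 Q₁ hQ₁C hQ₁P hcQ₁ Q' g hQ'₂ hg
    obtain ⟨ρ, hρ, hρP, b, hb, hbe⟩ := ih1 Q₀ hQ₀B hQ₀ hc Q₁ _ hQ₁ h3
    refine ⟨ρ, hρ, hρP, b, hb, fun x hx hx' => ?_⟩
    rw [← hbe x hx hx']
    show g (k x) = g (f₂ (f₁ x))
    rw [h1 x (hQ₀B hx)]

/-- Every map of the system onto a good subgroup. -/
theorem jj_of_mp [Finite S] [Fact p.Prime] (hS : IsPGroup p S) (hF : F.IsSaturated p)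
    {P : Subgroup Ω} (hP : Good F T PP P)
    (IH : ∀ R ∈ PP, Nat.card P < Nat.card R → h.sys.autGroup R = A R ∧ h.sys.IsReceptive R)
    {Q : Subgroup Ω} {f : Ω → Ω} (hf : Mp h.sys Q f) (hQP : Im f Q P) : JJ h.sys A P Q f := by
  have hPT := h.le P hP.1
  obtain ⟨f', hf', hf'i, -, -⟩ := exists_inverse hf hQP
  have hQ : Q ∈ PP := h.image P hP.1 f' Q (mp_mono h.sys_le hf') hf'i
  have hc : Nat.card Q = Nat.card P := (card_image hf hQP).symm
  refine h.jj_comp hS hF hP IH (h.mp_sys_iff.1 hf) Q le_rfl hQ hc P (fun x => x) hQP ?_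
  exact ⟨fun x => x, mp_id h.sys inf_le_left, im_id, 1, one_mem _, fun x hx hx' => rfl⟩

/-- The automorphism group of a good subgroup. -/
theorem aut_good [Finite S] [Fact p.Prime] (hS : IsPGroup p S) (hF : F.IsSaturated p)
    {P : Subgroup Ω} (hP : Good F T PP P)
    (IH : ∀ R ∈ PP, Nat.card P < Nat.card R → h.sys.autGroup R = A R ∧ h.sys.IsReceptive R) :
    h.sys.autGroup P = A P := by
  have hPT := h.le P hP.1
  have hTS := h.TS
  have hfT : Finite T := H802.finite_of_le hTS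
  by_cases hPe : P = T
  · rw [hPe]
    exact h.autGroup_top
  refine le_antisymm ?_ (h.A_le_sys hP.1)
  intro α hα
  have hαm := (mp_iff_autGroup hPT α).1 hα
  have hαi : Im (ex fun x => ((α x : P) : Ω)) P P := by
    intro y
    constructor
    · intro hy
      refine ⟨_, (α⁻¹ ⟨y, hy⟩).2, ?_⟩
      rw [ex_apply _ (α⁻¹ ⟨y, hy⟩).2]
      have h6 : (⟨((α⁻¹ ⟨y, hy⟩ : P) : Ω), (α⁻¹ ⟨y, hy⟩).2⟩ : P) = α⁻¹ ⟨y, hy⟩ := rfl
      rw [h6, MulAut.apply_inv_self]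
    · rintro ⟨x, hx, rfl⟩
      rw [ex_apply _ hx]
      exact (α _).2
  obtain ⟨ρ, hρ, hρP, a, ha, hae⟩ := h.jj_of_mp hS hF hP IH hαm hαi
  have hPN := H802.le_normalizerIn hPT
  have hNT : normalizerIn T P ≤ T := inf_le_left
  have hlt := card_lt_normalizerIn_T hS hTS hPT hPe
  have hNP := h.mono P hP.1 _ hPN hNT
  have hfN : Finite (normalizerIn T P) := H802.finite_of_le hNT
  obtain ⟨κ, hκ, hκe⟩ := hρ.exists_aut fun x hx =>
    ⟨hρ.mem hx, image_normalizes hρ hPN hρP hx hx.2⟩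
  rw [(IH _ hNP hlt).1] at hκ
  have hfP : Finite P := H802.finite_of_le hPT
  obtain ⟨κ', hκ', hκ'r⟩ := exists_restr hPN (hNT.trans hTS) (h.A_le _ hNP hκ) (by
    intro x hx
    rw [← hκe x (hPN hx)]
    exact hρP.mem hx)
  have h1 := h.res_full hS hF hNP hP.1 hPN hκ hκ'r
  have h2 : α = a * κ' := by
    apply MulEquiv.ext
    intro x
    apply Subtype.ext
    have h3 := hae x x.2 (hρP.mem x.2)
    rw [ex_coe] at h3
    rw [h3, MulAut.mul_apply]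
    congr 2
    refine Subtype.ext ?_
    show ρ x = _
    rw [hκe x (hPN x.2)]
    exact hκ'r x x.2
  rw [h2]
  exact mul_mem ha h1

/-- Good subgroups are receptive. -/
theorem receptive_good [Finite S] [Fact p.Prime] (hS : IsPGroup p S) (hF : F.IsSaturated p)
    {P : Subgroup Ω} (hP : Good F T PP P)
    (IH : ∀ R ∈ PP, Nat.card P < Nat.card R → h.sys.autGroup R = A R ∧ h.sys.IsReceptive R) :
    h.sys.IsReceptive P := by
  have hPT := h.le P hP.1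
  have hTS := h.TS
  have hfT : Finite T := H802.finite_of_le hTS
  refine isReceptive_of_mp hPT fun Q N f hf hfP hQN hN => ?_
  obtain ⟨ρ, hρ, hρP, a, ha, hae⟩ := h.jj_of_mp hS hF hP IH hf hfP
  have hNT : N ≤ normalizerIn T Q := fun g hg => ⟨(hN g hg).1, (hN g hg).2.1⟩
  have hρN := hρ.res hNT
  obtain ⟨X, hX, -⟩ := exists_image hρN
  have hXT : X ≤ T := by
    intro y hy
    obtain ⟨x, hx, rfl⟩ := (hX y).1 hy
    exact hρN.mem hx
  have hPX : P ≤ X := by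
    intro y hy
    obtain ⟨x, hx, rfl⟩ := (hρP y).1 hy
    exact hX.mem (hQN hx)
  obtain ⟨k, hk, hke⟩ := h.ext_good hS hF hP ha hPX hXT (by
    intro x₁ hx₁
    obtain ⟨g, hg, rfl⟩ := (hX x₁).1 hx₁
    obtain ⟨-, hgn, t, ht, hte⟩ := hN g hg
    refine ⟨image_normalizes hρN hQN hρP hg hgn, t, ht, fun y hy hxy => ?_⟩
    obtain ⟨q, hq, rfl⟩ := (hρP y).1 hy
    have hgq : g * q * g⁻¹ ∈ Q := (Subgroup.mem_normalizer_iff.1 hgn q).1 hq
    have h1 := mp_conj_val hρN hg (hQN hq)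
    rw [← hae q hq hy, ← hte q hq, hae _ hgq (hρP.mem hgq)]
    congr 2
    exact Subtype.ext h1.symm)
  refine ⟨_, hρN.comp hk fun x hx => hX.mem hx, fun x hx => ?_⟩
  show k (ρ x) = f x
  rw [hke _ (hρP.mem hx), ← hae x hx (hρP.mem hx)]

/-- **Main theorem on normal maps**: for `P ∈ PP`, the automorphism group of `P` in the generated system is `A P`,
and `P` is receptive in the generated system. -/
theorem aut_receptive [Finite S] [Fact p.Prime] (hS : IsPGroup p S) (hF : F.IsSaturated p) :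
    ∀ P ∈ PP, h.sys.autGroup P = A P ∧ h.sys.IsReceptive P := by
  have hTS := h.TS
  have hfT : Finite T := H802.finite_of_le hTS
  have main : ∀ n : ℕ, ∀ P ∈ PP, Nat.card T - Nat.card P = n →
      h.sys.autGroup P = A P ∧ h.sys.IsReceptive P := by
    intro n
    induction n using Nat.strong_induction_on with
    | _ n ih =>
    intro P hP hn
    have IH : ∀ R ∈ PP, Nat.card P < Nat.card R →
        h.sys.autGroup R = A R ∧ h.sys.IsReceptive R := by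
      intro R hR hlt
      have : Nat.card R ≤ Nat.card T := Nat.card_mono (Set.toFinite _) (h.le R hR)
      exact ih (Nat.card T - Nat.card R) (by omega) R hR rfl
    have hPT := h.le P hP
    have hPN := H802.le_normalizerIn hPT
    obtain ⟨δ, P₁, hδ, hδP, hP₁⟩ := h.exists_good hS hF hP
    have hδ' := hδ.res hPN
    have hcP₁ : Nat.card P₁ = Nat.card P := card_image hδ' hδP
    have IH₁ : ∀ R ∈ PP, Nat.card P₁ < Nat.card R →
        h.sys.autGroup R = A R ∧ h.sys.IsReceptive R := fun R hR hlt => IH R hR (hcP₁ ▸ hlt)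
    have hA₁ := h.aut_good hS hF hP₁ IH₁
    have hR₁ := h.receptive_good hS hF hP₁ IH₁
    have hP₁T := h.le P₁ hP₁.1
    refine ⟨le_antisymm ?_ (h.A_le_sys hP), ?_⟩
    · intro α hα
      obtain ⟨β, hβ⟩ := exists_tr hδ' hδP α
      have hβm := hβ.mem_autGroup hδ' hδP hα
      rw [hA₁] at hβm
      obtain ⟨ε, hε, hεi, hε1, -⟩ := exists_inverse hδ' hδP
      exact h.A_tr P₁ hP₁.1 ε P (mp_mono h.sys_le hε) hεi β hβm α (hβ.symm hδP hε1)
    · refine isReceptive_of_mp hPT fun Q N f hf hfP₀ hQN hN => ?_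
      have hfP : Im f Q P := hfP₀
      have hNT : N ≤ T := fun g hg => (hN g hg).1
      -- the elements `t` of `T` that appear normalize `P`
      have htn : ∀ g ∈ N, ∀ t ∈ T, (∀ x ∈ Q, f (g * x * g⁻¹) = t * f x * t⁻¹) →
          t ∈ normalizerIn T P := by
        intro g hg t ht hte
        refine ⟨ht, H802.mem_normalizer_of_conj_mem hPT fun y hy => ?_⟩
        obtain ⟨x, hx, rfl⟩ := (hfP y).1 hy
        rw [← hte x hx]
        exact hfP.mem ((Subgroup.mem_normalizer_iff.1 (hN g hg).2.1 x).1 hx)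
      obtain ⟨k₁, hk₁, hk₁e⟩ := mp_extend hR₁ (hf.comp hδ' fun x hx => hfP.mem hx)
        (hfP.comp hδP) hQN (by
        intro g hg
        obtain ⟨hgT, hgn, t, ht, hte⟩ := hN g hg
        have htN := htn g hg t ht hte
        refine ⟨hgT, hgn, δ t, hδ.mem htN, fun x hx => ?_⟩
        show δ (f (g * x * g⁻¹)) = δ t * δ (f x) * (δ t)⁻¹
        rw [hte x hx, mp_conj_val hδ htN (hPN (hfP.mem hx))])
      obtain ⟨D, hD, -⟩ := exists_image hδ
      obtain ⟨ε, hε, hεi, hε1, hε2⟩ := exists_inverse hδ hD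
      have hk₁D : ∀ g ∈ N, k₁ g ∈ D := by
        intro g hg
        obtain ⟨hgT, hgn, t, ht, hte⟩ := hN g hg
        have htN := htn g hg t ht hte
        have hc : (δ t)⁻¹ * k₁ g ∈ P₁ := by
          refine h.cent P₁ hP₁.1 _ (mul_mem (inv_mem (hδ.mem htN)) (hk₁.mem hg)) fun y hy => ?_
          obtain ⟨z, hz, rfl⟩ := (hδP y).1 hy
          obtain ⟨x, hx, rfl⟩ := (hfP z).1 hz
          have hgx : g * x * g⁻¹ ∈ Q := (Subgroup.mem_normalizer_iff.1 hgn x).1 hx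
          have e1 : k₁ g * δ (f x) * (k₁ g)⁻¹ = δ t * δ (f x) * (δ t)⁻¹ := by
            have e2 := mp_conj_val hk₁ hg (hQN hx)
            rw [hk₁e x hx, hk₁e _ hgx] at e2
            rw [← e2]
            show δ (f (g * x * g⁻¹)) = δ t * δ (f x) * (δ t)⁻¹
            rw [hte x hx, mp_conj_val hδ htN (hPN (hfP.mem hx))]
          calc δ (f x) * ((δ t)⁻¹ * k₁ g)
              = (δ t)⁻¹ * (δ t * δ (f x) * (δ t)⁻¹) * k₁ g := by group
            _ = (δ t)⁻¹ * (k₁ g * δ (f x) * (k₁ g)⁻¹) * k₁ g := by rw [e1]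
            _ = (δ t)⁻¹ * k₁ g * δ (f x) := by group
        obtain ⟨u, hu, hue⟩ := (hδP _).1 hc
        refine (hD _).2 ⟨t * u, mul_mem htN (hPN hu), ?_⟩
        rw [hδ.mul htN (hPN hu), hue]
        group
      refine ⟨_, hk₁.comp hε hk₁D, fun x hx => ?_⟩
      show ε (k₁ x) = f x
      rw [hk₁e x hx]
      exact hε1 _ (hPN (hfP.mem hx))
  intro P hP
  exact main _ P hP rfl

/-- Good subgroups are fully automized in the generated system. -/
theorem isFullyAutomized_good [Finite S] [Fact p.Prime] (hS : IsPGroup p S)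
    (hF : F.IsSaturated p) {P : Subgroup Ω} (hP : Good F T PP P) :
    h.sys.IsFullyAutomized p P := by
  have hfP : Finite P := H802.finite_of_le (h.leS hP.1)
  refine ⟨h.le P hP.1, ?_⟩
  rw [(h.aut_receptive hS hF P hP.1).1]
  exact (h.syl_good hP).exists_sylow

/-- Every member of `PP` is conjugate in the generated system to a fully automized and receptive subgroup. -/
theorem sat_on_PP [Finite S] [Fact p.Prime] (hS : IsPGroup p S) (hF : F.IsSaturated p)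
    {P : Subgroup Ω} (hP : P ∈ PP) :
    ∃ Q, h.sys.IsConj P Q ∧ h.sys.IsFullyAutomized p Q ∧ h.sys.IsReceptive Q := by
  obtain ⟨δ, P₁, hδ, hδP, hP₁⟩ := h.exists_good hS hF hP
  exact ⟨P₁, isConj_of_im (hδ.res (H802.le_normalizerIn (h.le P hP))) hδP,
    h.isFullyAutomized_good hS hF hP₁, (h.aut_receptive hS hF P₁ hP₁.1).2⟩

end NMap

end Cfsg.Agent.H754
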